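import Groth.Agent.RlimCrit.Shift

/-!
# Morphisms from degree `q` to objects in degrees at least `q`
-/

set_option autoImplicit false
set_option linter.style.haveILetI false

universe w v u

open CategoryTheory CategoryTheory.Limits DerivedCategory Pretriangulated

noncomputable section

namespace Groth.Agent.HDUPush

open RlimCrit

variable {A : Type u} [Category.{v} A] [Abelian A] [HasDerivedCategory.{w} A]

/-- Morphisms from degree `q` to an object in degrees at least `q` are morphisms to `H^q`. -/
theorem cl_bijective_of_isGE_self (M : A) (q : ℤ) (X : DerivedCategory A) [X.IsGE q] :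
    Function.Bijective (cl : (sgl q M ⟶ X) → _) := by
  let t : Triangulated.TStructure (DerivedCategory A) := TStructure.t
  haveI : (sgl q M).IsLE q := inferInstanceAs (((singleFunctor A q).obj M).IsLE q)
  let Y := (t.truncLT (q + 1)).obj X
  haveI : Y.IsLE q := t.isLE_truncLT_obj X (q + 1) q
  haveI : Y.IsGE q := (isGE_iff _ _).2 fun i hi => by
    haveI := DCohLib.isIso_homology_truncLTι X (q + 1) i (by omega)
    exact (isZero_of_isGE X q i hi).of_iso
      (asIso ((homologyFunctor A i).map ((t.truncLTι (q + 1)).app X)))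
  obtain ⟨W, ⟨e⟩⟩ := exists_iso_singleFunctor_obj_of_isGE_of_isLE Y q
  let e' : sgl q W ≅ Y := e.symm
  haveI := isIso_cl e'.hom
  haveI := DCohLib.isIso_homology_truncLTι X (q + 1) q (by omega)
  let c : W ⟶ (homologyFunctor A q).obj X := cl (e'.hom ≫ (t.truncLTι (q + 1)).app X)
  haveI : IsIso c := by
    show IsIso (cl _)
    rw [cl_comp]
    infer_instance
  constructor
  · intro ξ ξ' h
    refine sub_eq_zero.1 ?_
    have h0 : cl (ξ - ξ') = 0 := by rw [cl_sub, h, sub_self]
    exact DCohLib.zero_of_homology_zero q _ (homology_map_eq_zero_of_cl _ h0)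
  · intro x
    refine ⟨sglMap q (x ≫ inv c) ≫ e'.hom ≫ (t.truncLTι (q + 1)).app X, ?_⟩
    rw [cl_map]
    show (x ≫ inv c) ≫ c = x
    rw [Category.assoc, IsIso.inv_hom_id, Category.comp_id]

end Groth.Agent.HDUPush
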