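import Groth.Agent.HDUPush.ClBij
import Groth.Agent.RlimCrit.AbLimit
import Groth.Agent.RlimCrit.HDUSheafify
import Groth.Agent.CohTopEasy.PullExact
import Groth.Agent.TildeD.Adj
import Groth.Prelude.Def_CohTop

/-!
# The presheaf of hypercohomology of preimages
-/

set_option autoImplicit false
set_option linter.style.haveILetI false

universe w' u

open CategoryTheory CategoryTheory.Limits Opposite TopologicalSpace DerivedCategory

noncomputable section

namespace Groth.Agent.HDUPush

open RlimCrit

variable {X Y : TopCat.{u}} (f : X ⟶ Y)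

/-- The free sheaf functor on opens. -/
abbrev fr (X : TopCat.{u}) : Opens X ⥤ CohTop.Ab X := abP (Opens.grothendieckTopology X)

/-- The inverse image of abelian sheaves and its adjunction. -/
abbrev pullAdj : CohTop.pull f ⊣ CohTop.push f :=
  TopCat.Sheaf.pullbackPushforwardAdjunction AddCommGrpCat.{u} f

/-- Morphisms out of the inverse image of a free sheaf. -/
def pullSec (V : Opens Y) (M : CohTop.Ab X) :
    ((CohTop.pull f).obj ((fr Y).obj V) ⟶ M) ≃ M.obj.obj (op ((Opens.map f).obj V)) :=
  ((pullAdj f).homEquiv _ M).trans (abSec V ((CohTop.push f).obj M))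

theorem pullSec_comp (V : Opens Y) {M N : CohTop.Ab X}
    (x : (CohTop.pull f).obj ((fr Y).obj V) ⟶ M) (e : M ⟶ N) :
    pullSec f V N (x ≫ e) = e.hom.app (op ((Opens.map f).obj V)) (pullSec f V M x) :=
  (congrArg (abSec V _) ((pullAdj f).homEquiv_naturality_right x e)).trans (abSec_comp V _ _)

theorem pullSec_map {U V : Opens Y} (g : V ⟶ U) (M : CohTop.Ab X)
    (x : (CohTop.pull f).obj ((fr Y).obj U) ⟶ M) :
    pullSec f V M ((CohTop.pull f).map ((fr Y).map g) ≫ x) =
      M.obj.map ((Opens.map f).map g).op (pullSec f U M x) :=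
  (congrArg (abSec V _) ((pullAdj f).homEquiv_naturality_left _ x)).trans (abSec_map g _ _)

/-- The comparison from the inverse image of a free sheaf. -/
def frPullHom (V : Opens Y) : (CohTop.pull f).obj ((fr Y).obj V) ⟶ (fr X).obj ((Opens.map f).obj V) :=
  (pullSec f V _).symm (abSec _ _ (𝟙 _))

theorem frPullHom_comp (V : Opens Y) {M : CohTop.Ab X} (y : (fr X).obj ((Opens.map f).obj V) ⟶ M) :
    pullSec f V M (frPullHom f V ≫ y) = abSec _ M y := by
  rw [pullSec_comp, frPullHom, Equiv.apply_symm_apply, ← abSec_comp, Category.id_comp]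

instance isIso_frPullHom (V : Opens Y) : IsIso (frPullHom f V) := by
  refine ⟨(abSec _ _).symm (pullSec f V _ (𝟙 _)), ?_, ?_⟩
  · refine (pullSec f V _).injective ?_
    rw [frPullHom_comp, Equiv.apply_symm_apply]
  · refine (abSec _ _).injective ?_
    rw [abSec_comp, Equiv.apply_symm_apply, ← pullSec_comp, Category.id_comp, frPullHom,
      Equiv.apply_symm_apply]

theorem frPullHom_naturality {U V : Opens Y} (g : V ⟶ U) :
    (CohTop.pull f).map ((fr Y).map g) ≫ frPullHom f U =
      frPullHom f V ≫ (fr X).map ((Opens.map f).map g) := by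
  refine (pullSec f V _).injective ?_
  rw [pullSec_map, frPullHom_comp, frPullHom, Equiv.apply_symm_apply, ← abSec_map]
  simp

variable [(CohTop.pull f).Additive] [PreservesFiniteLimits (CohTop.pull f)]
  [PreservesFiniteColimits (CohTop.pull f)]
  [HasDerivedCategory.{u} (CohTop.Ab X)] [HasDerivedCategory.{w'} (CohTop.Ab Y)]

/-- The derived inverse image of an object in one degree. -/
def sglPullIso (i : ℤ) (M : CohTop.Ab Y) :
    (CohTop.pull f).mapDerivedCategory.obj (sgl i M) ≅ sgl i ((CohTop.pull f).obj M) :=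
  (CohTop.pull f).mapDerivedCategoryFactors.app _ ≪≫
    Q.mapIso ((HomologicalComplex.singleMapHomologicalComplex (CohTop.pull f) (ComplexShape.up ℤ) i).app M)

theorem sglPullIso_naturality (i : ℤ) {M N : CohTop.Ab Y} (a : M ⟶ N) :
    (CohTop.pull f).mapDerivedCategory.map (sglMap i a) ≫ (sglPullIso f i N).hom =
      (sglPullIso f i M).hom ≫ sglMap i ((CohTop.pull f).map a) := by
  have h₁ := (CohTop.pull f).mapDerivedCategoryFactors.hom.naturality
    ((HomologicalComplex.single (CohTop.Ab Y) (ComplexShape.up ℤ) i).map a)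
  have h₂ := congrArg Q.map ((HomologicalComplex.singleMapHomologicalComplex (CohTop.pull f)
    (ComplexShape.up ℤ) i).hom.naturality a)
  rw [Functor.map_comp, Functor.map_comp] at h₂
  refine (Category.assoc _ _ _).symm.trans ?_
  refine (congrArg (· ≫ _) h₁).trans ?_
  refine (Category.assoc _ _ _).trans ?_
  exact (congrArg (_ ≫ ·) h₂).trans (Category.assoc _ _ _).symm

variable {RG : DerivedCategory (CohTop.Ab X) ⥤ DerivedCategory (CohTop.Ab Y)}
  (D : (CohTop.pull f).mapDerivedCategory ⊣ RG) (K : DerivedCategory (CohTop.Ab X))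

/-- Classes on preimages as classes of the derived direct image. -/
def pushClass (i : ℤ) (V : Opens Y) :
    (sgl i ((fr X).obj ((Opens.map f).obj V)) ⟶ K) →+ (sgl i ((fr Y).obj V) ⟶ RG.obj K) :=
  haveI : (CohTop.pull f).mapDerivedCategory.Additive := inferInstance
  (D.homAddEquiv _ K).toAddMonoidHom.comp
    (Preadditive.leftComp K ((sglPullIso f i _).hom ≫ sglMap i (frPullHom f V)))

theorem pushClass_bijective (i : ℤ) (V : Opens Y) : Function.Bijective (pushClass f D K i V) := by
  haveI : IsIso (sglMap i (frPullHom f V) : sgl i _ ⟶ _) := by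
    unfold sglMap
    infer_instance
  let a := (sglPullIso f i ((fr Y).obj V)).hom ≫ sglMap i (frPullHom f V)
  haveI : (CohTop.pull f).mapDerivedCategory.Additive := inferInstance
  have h : Function.Bijective fun x : sgl i ((fr X).obj ((Opens.map f).obj V)) ⟶ K => a ≫ x :=
    ⟨fun x y e => (cancel_epi a).1 e, fun z => ⟨inv a ≫ z, IsIso.hom_inv_id_assoc a z⟩⟩
  exact (D.homAddEquiv _ K).bijective.comp h

theorem pushClass_map (i : ℤ) {U V : Opens Y} (g : V ⟶ U)
    (ξ : sgl i ((fr X).obj ((Opens.map f).obj U)) ⟶ K) :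
    pushClass f D K i V (sglMap i ((fr X).map ((Opens.map f).map g)) ≫ ξ) =
      sglMap i ((fr Y).map g) ≫ pushClass f D K i U ξ := by
  refine Eq.trans ?_ (D.homEquiv_naturality_left _ _)
  refine congrArg (D.homEquiv _ K) ?_
  have n := sglPullIso_naturality f i ((fr Y).map g)
  have m : sglMap i ((CohTop.pull f).map ((fr Y).map g)) ≫ sglMap i (frPullHom f U) =
      (sglMap i (frPullHom f V) : sgl i _ ⟶ _) ≫ sglMap i ((fr X).map ((Opens.map f).map g)) := by
    unfold sglMap
    rw [← Functor.map_comp, ← Functor.map_comp, ← Functor.map_comp, ← Functor.map_comp,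
      frPullHom_naturality]
  show ((sglPullIso f i _).hom ≫ sglMap i (frPullHom f V)) ≫
      sglMap i ((fr X).map ((Opens.map f).map g)) ≫ ξ =
    (CohTop.pull f).mapDerivedCategory.map (sglMap i ((fr Y).map g)) ≫
      ((sglPullIso f i _).hom ≫ sglMap i (frPullHom f U)) ≫ ξ
  simp only [Category.assoc]
  exact ((congrArg (_ ≫ ·) ((Category.assoc _ _ _).symm.trans
    ((congrArg (· ≫ ξ) m.symm).trans (Category.assoc _ _ _)))).trans
      ((Category.assoc _ _ _).symm.trans ((congrArg (· ≫ _) n.symm).trans (Category.assoc _ _ _))))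

include D in
theorem isGE_push {B : Set (Opens Y)} (hB : Opens.IsBasis B)
    (h : ∀ V ∈ B, ∀ i : ℤ, i < 0 → Subsingleton (CohCx.HDU K i ((Opens.map f).obj V))) :
    (RG.obj K).IsGE 0 := by
  refine (isGE_iff _ _).2 fun i hi => ?_
  refine (IsZero.iff_id_eq_zero _).2 ((isLocGen_ab (J := Opens.grothendieckTopology Y)).det _
    fun U x => ?_)
  rw [Category.comp_id]
  obtain ⟨S, hS, hS'⟩ := exists_local_class (isLocGen_ab (J := Opens.grothendieckTopology Y)) x
  let T : Sieve U :=
    { arrows := fun W g => (fr Y).map g ≫ x = 0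
      downward_closed := fun {W W'} g hg k => by
        rw [Functor.map_comp, Category.assoc, hg, comp_zero] }
  refine (isLocGen_ab (J := Opens.grothendieckTopology Y)).sep x T ?_ fun W g hg => hg
  intro y hy
  obtain ⟨W, g, hg, hyW⟩ := hS y hy
  obtain ⟨V, hVB, hyV, hVW⟩ := Opens.isBasis_iff_nbhd.1 hB hyW
  refine ⟨V, homOfLE hVW ≫ g, ?_, hyV⟩
  obtain ⟨ξ, hξ⟩ := hS' (homOfLE hVW ≫ g) (S.downward_closed hg _)
  show (fr Y).map (homOfLE hVW ≫ g) ≫ x = 0
  rw [← hξ]
  haveI := h V hVB i hi
  haveI : Subsingleton (sgl i ((fr X).obj ((Opens.map f).obj V)) ⟶ K) :=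
    @Equiv.subsingleton _ _ (hdu ((fr X).obj ((Opens.map f).obj V)) i K).toEquiv (h V hVB i hi)
  haveI : Subsingleton (sgl i ((fr Y).obj V) ⟶ RG.obj K) :=
    (Equiv.ofBijective _ (pushClass_bijective f D K i V)).symm.subsingleton
  rw [Subsingleton.elim ξ 0, cl_zero]

include D in
theorem subsingleton_of_isGE [(RG.obj K).IsGE 0] (V : Opens Y) (i : ℤ) (hi : i < 0) :
    Subsingleton (sgl i ((fr X).obj ((Opens.map f).obj V)) ⟶ K) := by
  haveI : (sgl i ((fr Y).obj V)).IsLE i :=
    inferInstanceAs (((singleFunctor (CohTop.Ab Y) i).obj ((fr Y).obj V)).IsLE i)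
  haveI : Subsingleton (sgl i ((fr Y).obj V) ⟶ RG.obj K) := subsingleton_hom_of_lt i 0 hi
  exact (Equiv.ofBijective _ (pushClass_bijective f D K i V)).subsingleton

include D in
theorem isSheaf_HDU [(RG.obj K).IsGE 0] :
    Presheaf.IsSheaf (Opens.grothendieckTopology Y)
      ((Opens.map f).op ⋙ CohCx.HDUPresheaf K 0) := by
  let H := (homologyFunctor (CohTop.Ab Y) 0).obj (RG.obj K)
  let F : ∀ V : Opens Y, CohCx.HDU K 0 ((Opens.map f).obj V) →+ H.obj.obj (op V) := fun V =>
    (abSecAdd V H).toAddMonoidHom.comp ((AddMonoidHom.mk' cl fun x y => by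
      simp only [cl, Functor.map_add, Preadditive.comp_add]).comp
        ((pushClass f D K 0 V).comp (hdu ((fr X).obj ((Opens.map f).obj V)) 0 K).symm.toAddMonoidHom))
  have hF : ∀ V, Function.Bijective (F V) := fun V =>
    (abSecAdd V H).bijective.comp ((cl_bijective_of_isGE_self _ 0 _).comp
      ((pushClass_bijective f D K 0 V).comp
        (hdu ((fr X).obj ((Opens.map f).obj V)) 0 K).symm.bijective))
  have hFn : ∀ {U V : Opens Y} (g : V ⟶ U) (z : CohCx.HDU K 0 ((Opens.map f).obj U)),
      F V ((singleFunctor (CohTop.Ab X) 0).map ((fr X).map ((Opens.map f).map g)) ≫ z) =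
        H.obj.map g.op (F U z) := by
    intro U V g z
    have e : (hdu ((fr X).obj ((Opens.map f).obj V)) 0 K).symm
        ((singleFunctor (CohTop.Ab X) 0).map ((fr X).map ((Opens.map f).map g)) ≫ z) =
          sglMap 0 ((fr X).map ((Opens.map f).map g)) ≫
            (hdu ((fr X).obj ((Opens.map f).obj U)) 0 K).symm z := by
      apply (hdu ((fr X).obj ((Opens.map f).obj V)) 0 K).injective
      rw [AddEquiv.apply_symm_apply, hdu_map, AddEquiv.apply_symm_apply]
    show abSec V H (cl (pushClass f D K 0 V _)) = _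
    refine (congrArg (fun t => abSec V H (cl (pushClass f D K 0 V t))) e).trans ?_
    rw [pushClass_map, cl_map, abSec_map]
    rfl
  let φ : (Opens.map f).op ⋙ CohCx.HDUPresheaf K 0 ⟶ H.obj :=
    { app := fun V => AddCommGrpCat.ofHom (F V.unop)
      naturality := fun U V g => AddCommGrpCat.hom_ext (AddMonoidHom.ext fun z => hFn g.unop z) }
  haveI : ∀ V, IsIso (φ.app V) := fun V =>
    (ConcreteCategory.isIso_iff_bijective _).2 (hF V.unop)
  haveI : IsIso φ := NatIso.isIso_of_isIso_app φ
  exact (Presheaf.isSheaf_of_iso_iff (asIso φ)).2 H.property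

end Groth.Agent.HDUPush
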